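import Mathlib
import Groth.Prelude.Def_Hens2
import Groth.Agent.Lib.Helper8.HensLaurent
import Groth.Agent.Lib.Helper8.PairHens.PowQuot
import Groth.Agent.Lib.Helper8.PairHens.Unique

/-!
# Basic structure of the henselization `B` of `(R[X], (X))` over a local ring `R`

`B` is local with maximal ideal `(m, t)B`; coefficient extraction modulo `m`.
-/

set_option autoImplicit false
universe u
open Polynomial IsLocalRing

namespace Groth.Agent.H8.Weier

open Groth.Agent.H8.PairHens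

section Basic

variable {R : Type u} [CommRing R] [IsLocalRing R] {B : Type u} [CommRing B] [Algebra R B]
  [Algebra R[X] B] [IsScalarTower R R[X] B]

local notation "𝔱" => (algebraMap (Polynomial R) B (Polynomial.X : Polynomial R))
local notation "𝔪B" => (Ideal.map (algebraMap R B) (IsLocalRing.maximalIdeal R))

theorem map_span_X :
    (Ideal.span {(X : R[X])}).map (algebraMap R[X] B) = Ideal.span {𝔱} := by
  rw [Ideal.map_span, Set.image_singleton]

theorem map_span_X_pow (n : ℕ) :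
    ((Ideal.span {(X : R[X])}) ^ n).map (algebraMap R[X] B) = Ideal.span {𝔱 ^ n} := by
  rw [Ideal.span_singleton_pow, Ideal.map_span, Set.image_singleton, map_pow]

theorem algebraMap_C (r : R) : algebraMap R[X] B (C r) = algebraMap R B r := by
  rw [Polynomial.C_eq_algebraMap, ← IsScalarTower.algebraMap_apply R R[X] B]

theorem map_map_C :
    ((maximalIdeal R).map (C : R →+* R[X])).map (algebraMap R[X] B) = 𝔪B := by
  rw [Ideal.map_map]
  congr 1
  ext r
  exact algebraMap_C r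

/-- the augmentation `B → R`, `t ↦ 0`. -/
theorem exists_rho (hB : Hens2.IsPairHenselization R[X] (Ideal.span {(X : R[X])}) B) :
    ∃ ρ : B →+* R, ∀ p : R[X], ρ (algebraMap R[X] B p) = p.coeff 0 := by
  obtain ⟨ψ, hψ⟩ := Groth.Agent.H8.HensLaurent.exists_toPowerSeries hB
  refine ⟨(PowerSeries.constantCoeff (R := R)).comp ψ, fun p => ?_⟩
  have hψp : ψ (algebraMap R[X] B p) = (p : PowerSeries R) := congrArg (fun φ => φ p) hψ
  rw [RingHom.comp_apply, hψp, ← PowerSeries.coeff_zero_eq_constantCoeff_apply,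
    Polynomial.coeff_coe]

/-- the reduction `B → k⟦X⟧`. -/
theorem exists_Phi (hB : Hens2.IsPairHenselization R[X] (Ideal.span {(X : R[X])}) B) :
    ∃ Φ : B →+* PowerSeries (ResidueField R), ∀ (p : R[X]) (n : ℕ),
      PowerSeries.coeff n (Φ (algebraMap R[X] B p)) = residue R (p.coeff n) := by
  obtain ⟨ψ, hψ⟩ := Groth.Agent.H8.HensLaurent.exists_toPowerSeries hB
  refine ⟨(PowerSeries.map (residue R)).comp ψ, fun p n => ?_⟩
  have hψp : ψ (algebraMap R[X] B p) = (p : PowerSeries R) := congrArg (fun φ => φ p) hψ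
  rw [RingHom.comp_apply, hψp, PowerSeries.coeff_map, Polynomial.coeff_coe]

section rho

variable (hB : Hens2.IsPairHenselization R[X] (Ideal.span {(X : R[X])}) B)
  (ρ : B →+* R) (hρ : ∀ p : R[X], ρ (algebraMap R[X] B p) = p.coeff 0)

include hρ in
theorem rho_algebraMap (r : R) : ρ (algebraMap R B r) = r := by
  rw [← algebraMap_C, hρ, coeff_C_zero]

include hρ in
theorem rho_t : ρ 𝔱 = 0 := by
  rw [hρ, coeff_X_zero]

include hB hρ in
theorem mem_span_t_of_rho_eq_zero (b : B) (hb : ρ b = 0) : b ∈ Ideal.span {𝔱} := by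
  obtain ⟨a, ha⟩ := exists_sub_mem_of_isPairHenselization hB b
  rw [map_span_X] at ha
  obtain ⟨c, hc⟩ := Ideal.mem_span_singleton'.mp ha
  have h1 : a.coeff 0 = 0 := by
    have h2 := congrArg ρ hc
    rw [map_mul, rho_t ρ hρ, mul_zero, map_sub, hb, hρ, zero_sub] at h2
    exact neg_eq_zero.mp h2.symm
  obtain ⟨a', rfl⟩ := Polynomial.X_dvd_iff.mpr h1
  have h3 : b = (c + algebraMap R[X] B a') * 𝔱 := by
    rw [add_mul, hc, map_mul]; ring
  rw [h3]
  exact Ideal.mem_span_singleton'.mpr ⟨_, rfl⟩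

include hB hρ in
theorem sub_rho_mem (b : B) : b - algebraMap R B (ρ b) ∈ Ideal.span {𝔱} := by
  apply mem_span_t_of_rho_eq_zero hB ρ hρ
  rw [map_sub, rho_algebraMap ρ hρ, sub_self]

theorem isUnit_add_of_mem_jacobson {A : Type*} [CommRing A] {u x : A} (hu : IsUnit u)
    (hx : x ∈ Ideal.jacobson (⊥ : Ideal A)) : IsUnit (u + x) := by
  obtain ⟨u', rfl⟩ := hu
  have h1 := Ideal.mem_jacobson_bot.mp hx (↑u'⁻¹)
  have h2 : (↑u' : A) + x = (x * ↑u'⁻¹ + 1) * ↑u' := by
    rw [add_mul, mul_assoc, Units.inv_mul, mul_one, one_mul, add_comm]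
  rw [h2]
  exact h1.mul u'.isUnit

include hB hρ in
theorem isUnit_of_isUnit_rho (b : B) (hb : IsUnit (ρ b)) : IsUnit b := by
  have h1 : b = algebraMap R B (ρ b) + (b - algebraMap R B (ρ b)) := by ring
  rw [h1]
  refine isUnit_add_of_mem_jacobson (hb.map _) ?_
  have hjac := hB.1.jac
  rw [map_span_X] at hjac
  exact hjac (sub_rho_mem hB ρ hρ b)

include hB hρ in
theorem mem_sup_of_not_isUnit (b : B) (hb : ¬ IsUnit b) : b ∈ Ideal.span {𝔱} ⊔ 𝔪B := by
  have h1 : ρ b ∈ maximalIdeal R := by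
    rw [IsLocalRing.mem_maximalIdeal, mem_nonunits_iff]
    exact fun h => hb (isUnit_of_isUnit_rho hB ρ hρ b h)
  exact Submodule.mem_sup.mpr ⟨b - algebraMap R B (ρ b), sub_rho_mem hB ρ hρ b,
    algebraMap R B (ρ b), Ideal.mem_map_of_mem _ h1, by ring⟩

include hρ in
theorem rho_mem_of_mem (x : B) (hx : x ∈ 𝔪B) : ρ x ∈ maximalIdeal R := by
  have h1 : 𝔪B ≤ (maximalIdeal R).comap ρ := by
    rw [Ideal.map_le_iff_le_comap]
    intro r hr
    rw [Ideal.mem_comap, Ideal.mem_comap, rho_algebraMap ρ hρ]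
    exact hr
  exact h1 hx

include hB hρ in
theorem map_maximalIdeal_le_jacobson : 𝔪B ≤ Ideal.jacobson ⊥ := by
  intro x hx
  rw [Ideal.mem_jacobson_bot]
  intro y
  apply isUnit_of_isUnit_rho hB ρ hρ
  rw [map_add, map_mul, map_one]
  have h1 : ρ x * ρ y ∈ maximalIdeal R := Ideal.mul_mem_right _ _ (rho_mem_of_mem ρ hρ x hx)
  have h2 := Ideal.mem_jacobson_bot.mp (IsLocalRing.maximalIdeal_le_jacobson ⊥ h1) 1
  rwa [mul_one] at h2

end rho

section Phi

variable (Φ : B →+* PowerSeries (ResidueField R))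
  (hΦ : ∀ (p : R[X]) (n : ℕ),
    PowerSeries.coeff n (Φ (algebraMap R[X] B p)) = residue R (p.coeff n))

include hΦ in
theorem Phi_t : Φ 𝔱 = PowerSeries.X := by
  ext n
  rw [hΦ, PowerSeries.coeff_X, Polynomial.coeff_X]
  by_cases h : n = 1
  · subst h; simp
  · rw [if_neg h, if_neg (fun h' => h h'.symm), map_zero]

include hΦ in
theorem Phi_eq_zero_of_mem (z : B) (hz : z ∈ 𝔪B) : Φ z = 0 := by
  have h1 : 𝔪B ≤ RingHom.ker Φ := by
    rw [Ideal.map_le_iff_le_comap]
    intro r hr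
    rw [Ideal.mem_comap, RingHom.mem_ker, ← algebraMap_C]
    ext n
    rw [hΦ, map_zero, Polynomial.coeff_C]
    split_ifs
    · exact (IsLocalRing.residue_eq_zero_iff r).mpr hr
    · exact map_zero _
  exact h1 hz

include hΦ in
/-- Coefficient extraction: a polynomial whose image lies in `(t^n, m)B` has its first `n`
coefficients in `m`. -/
theorem coeff_mem_of_algebraMap_mem (n : ℕ) (q : R[X])
    (hq : algebraMap R[X] B q ∈ Ideal.span {𝔱 ^ n} ⊔ 𝔪B) (i : ℕ) (hi : i < n) :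
    q.coeff i ∈ maximalIdeal R := by
  obtain ⟨y, hy, z, hz, hyz⟩ := Submodule.mem_sup.mp hq
  obtain ⟨c, rfl⟩ := Ideal.mem_span_singleton'.mp hy
  have h1 := congrArg (fun w => PowerSeries.coeff i (Φ w)) hyz
  rw [map_add, Phi_eq_zero_of_mem Φ hΦ z hz, add_zero, map_mul, map_pow, Phi_t Φ hΦ,
    PowerSeries.coeff_mul_X_pow', if_neg (by omega), hΦ] at h1
  exact (IsLocalRing.residue_eq_zero_iff _).mp h1.symm

include hΦ in
theorem t_pow_notMem (n : ℕ) : 𝔱 ^ n ∉ 𝔪B := by
  intro h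
  have h1 := Phi_eq_zero_of_mem Φ hΦ _ h
  rw [map_pow, Phi_t Φ hΦ] at h1
  exact pow_ne_zero n PowerSeries.X_ne_zero h1

end Phi

/-- Division with remainder by `t^n`. -/
theorem exists_degree_lt_sub_mem
    (hB : Hens2.IsPairHenselization R[X] (Ideal.span {(X : R[X])}) B) (n : ℕ) (b : B) :
    ∃ p : R[X], p.degree < n ∧ b - algebraMap R[X] B p ∈ Ideal.span {𝔱 ^ n} := by
  obtain ⟨a, ha⟩ := exists_sub_mem_pow (exists_sub_mem_of_isPairHenselization hB) n b
  rw [map_span_X_pow] at ha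
  refine ⟨a %ₘ X ^ n, ?_, ?_⟩
  · have := Polynomial.degree_modByMonic_lt a (monic_X_pow (R := R) n)
    rwa [degree_X_pow] at this
  · have h1 : a = a %ₘ X ^ n + X ^ n * (a /ₘ X ^ n) := (Polynomial.modByMonic_add_div a _).symm
    have h2 : b - algebraMap R[X] B (a %ₘ X ^ n) =
        (b - algebraMap R[X] B a) + algebraMap R[X] B (a /ₘ X ^ n) * 𝔱 ^ n := by
      conv_rhs => rw [h1]
      rw [map_add, map_mul, map_pow]
      rw [← h1]
      ring
    rw [h2]
    exact Ideal.add_mem _ ha (Ideal.mem_span_singleton'.mpr ⟨_, rfl⟩)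

/-- Expansion of a polynomial of degree `< n`. -/
theorem algebraMap_eq_sum {n : ℕ} {p : R[X]} (hp : p.degree < n) :
    algebraMap R[X] B p = ∑ i : Fin n, algebraMap R B (p.coeff i) * 𝔱 ^ (i : ℕ) := by
  have h1 : p = ∑ i ∈ Finset.range n, C (p.coeff i) * X ^ i := by
    by_cases h0 : p = 0
    · subst h0; simp
    · exact p.as_sum_range_C_mul_X_pow' ((Polynomial.natDegree_lt_iff_degree_lt h0).mpr hp)
  conv_lhs => rw [h1]
  rw [map_sum, Finset.sum_range]
  refine Finset.sum_congr rfl fun i _ => ?_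
  rw [map_mul, map_pow, algebraMap_C]

end Basic

end Groth.Agent.H8.Weier
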