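import Mathlib
import Groth.Prelude.Def_Hens2
import Groth.Agent.Lib.Helper8.Weier.Basic
import Groth.Agent.Lib.Helper8.PairHens.ZMT
import Groth.Agent.Lib.Helper8.PairHens.TensorDescent
import Groth.Agent.Lib.Helper8.PairHens.FinsetDescent
import Groth.Agent.Lib.Helper8.PairHens.Colimit
import Groth.Agent.Lib.Helper8.PairHens.Quotient
import Groth.Agent.Lib.Helper8.HensPair.Radical
import Groth.Agent.Lib.Helper1.Henselian

/-!
# Finiteness of `B/(f)` over `R` (Zariski's main theorem for henselian pairs)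
-/

set_option autoImplicit false
universe u
open Polynomial IsLocalRing TensorProduct

namespace Groth.Agent.H8.Weier

open Groth.Agent.H8.PairHens

theorem tmul_one_eq_zero_iff {A : Type u} [CommRing A] (K : Ideal A) (M : Type u) [CommRing M]
    [Algebra A M] (y : M) :
    y ⊗ₜ[A] (1 : A ⧸ K) = 0 ↔ y ∈ K.map (algebraMap A M) := by
  rw [← (TensorProduct.tensorQuotEquivQuotSMul M K).map_eq_zero_iff]
  have h1 : (1 : A ⧸ K) = Ideal.Quotient.mk K 1 := rfl
  rw [h1, TensorProduct.tensorQuotEquivQuotSMul_tmul_mk, one_smul, Submodule.Quotient.mk_eq_zero,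
    Ideal.smul_top_eq_map]
  rfl

/-- Descent of ideal membership from the henselization to an étale neighbourhood. -/
theorem exists_isoMod_mem_map {A : Type u} [CommRing A] {I : Ideal A} {B : Type u} [CommRing B]
    [Algebra A B] (hB : Hens2.IsPairHenselization A I B) (K : Ideal A)
    (E : Type u) [CommRing E] [Algebra A E] [Algebra.Etale A E] (h : IsoMod I E)
    (ι : E →ₐ[A] B) (x : E) (hx : ι x ∈ K.map (algebraMap A B)) :
    ∃ (E' : Type u) (_ : CommRing E') (_ : Algebra A E') (_ : Algebra.Etale A E'),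
      IsoMod I E' ∧ ∃ ψ : E →ₐ[A] E', ψ x ∈ K.map (algebraMap A E') := by
  have hz : Algebra.TensorProduct.map ι (AlgHom.id A (A ⧸ K)) (x ⊗ₜ[A] (1 : A ⧸ K)) = 0 := by
    rw [Algebra.TensorProduct.map_tmul]
    exact (tmul_one_eq_zero_iff K B (ι x)).mpr hx
  obtain ⟨E', _, _, _, h', ψ, hψ⟩ := exists_isoMod_tensor_kill (A ⧸ K) hB E h ι _ hz
  refine ⟨E', inferInstance, inferInstance, inferInstance, h', ψ, ?_⟩
  rw [Algebra.TensorProduct.map_tmul] at hψ
  exact (tmul_one_eq_zero_iff K E' (ψ x)).mp hψ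

section Finite

variable {R : Type u} [CommRing R] [HenselianLocalRing R] {B : Type u} [CommRing B] [Algebra R B]
  [Algebra R[X] B] [IsScalarTower R R[X] B]

local notation "𝔱" => (algebraMap (Polynomial R) B (Polynomial.X : Polynomial R))
local notation "𝔪B" => (Ideal.map (algebraMap R B) (IsLocalRing.maximalIdeal R))

/-- `B` is henselian along `(t, m)B`. -/
theorem henselianRing_sup (hB : Hens2.IsPairHenselization R[X] (Ideal.span {(X : R[X])}) B) :
    HenselianRing B (Ideal.span {𝔱} ⊔ 𝔪B) := by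
  obtain ⟨ρ, hρ⟩ := exists_rho hB
  haveI hI : HenselianRing B (Ideal.span {𝔱}) := by
    have := hB.1
    rwa [map_span_X] at this
  have hIJ : Ideal.span {𝔱} ≤ Ideal.span {𝔱} ⊔ 𝔪B := le_sup_left
  let p : R →+* B ⧸ Ideal.span {𝔱} := (Ideal.Quotient.mk _).comp (algebraMap R B)
  have hp : Function.Surjective p := by
    intro y
    obtain ⟨b, rfl⟩ := Ideal.Quotient.mk_surjective y
    refine ⟨ρ b, ?_⟩
    show Ideal.Quotient.mk _ (algebraMap R B (ρ b)) = Ideal.Quotient.mk _ b
    exact (Ideal.Quotient.eq.mpr (sub_rho_mem hB ρ hρ b)).symm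
  have h2 := henselianRing_map_of_surjective (maximalIdeal R) p hp
  have h3 : (maximalIdeal R).map p =
      Ideal.map (Ideal.Quotient.mk (Ideal.span {𝔱})) (Ideal.span {𝔱} ⊔ 𝔪B) := by
    rw [Ideal.map_sup, Ideal.map_quotient_self, bot_sup_eq, Ideal.map_map]
  haveI : HenselianRing (B ⧸ Ideal.span {𝔱})
      (Ideal.map (Ideal.Quotient.mk (Ideal.span {𝔱})) (Ideal.span {𝔱} ⊔ 𝔪B)) := by
    rw [← h3]; exact h2
  exact Groth.Agent.H1.HenselianRing.of_quotient hIJ

/-- Finiteness from descended data. -/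
theorem finite_quotient_of_descent
    (hB : Hens2.IsPairHenselization R[X] (Ideal.span {(X : R[X])}) B)
    (E : Type u) [CommRing E] [Algebra R[X] E] [Algebra.Etale R[X] E]
    (h : IsoMod (Ideal.span {(X : R[X])}) E) (ι : E →ₐ[R[X]] B) (fE : E) (d : ℕ)
    (hX : (algebraMap R[X] E X) ^ d ∈ Ideal.span {fE} ⊔
      ((maximalIdeal R).map (C : R →+* R[X])).map (algebraMap R[X] E)) :
    Module.Finite R (B ⧸ Ideal.span {ι fE}) := by
  letI : Algebra R E := ((algebraMap R[X] E).comp (C : R →+* R[X])).toAlgebra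
  haveI : IsScalarTower R R[X] E := IsScalarTower.of_algebraMap_eq (fun r => rfl)
  letI : Algebra E B := ι.toRingHom.toAlgebra
  haveI : IsScalarTower R[X] E B := IsScalarTower.of_algebraMap_eq (fun a => (ι.commutes a).symm)
  haveI : IsScalarTower R E B := IsScalarTower.of_algebraMap_eq (fun r => by
    show algebraMap R B r = ι (algebraMap R[X] E (C r))
    rw [ι.commutes, algebraMap_C])
  have hBE : Hens2.IsPairHenselization E ((Ideal.span {(X : R[X])}).map (algebraMap R[X] E)) B :=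
    isPairHenselization_of_isoMod hB E h
  have hmE : ((maximalIdeal R).map (C : R →+* R[X])).map (algebraMap R[X] E) =
      (maximalIdeal R).map (algebraMap R E) := by
    rw [Ideal.map_map]; rfl
  -- the relation in `B`
  have htd : 𝔱 ^ d ∈ Ideal.span {ι fE} ⊔ 𝔪B := by
    obtain ⟨y, hy, z, hz, hyz⟩ := Submodule.mem_sup.mp hX
    obtain ⟨c, rfl⟩ := Ideal.mem_span_singleton'.mp hy
    have h1 : 𝔱 ^ d = ι c * ι fE + ι z := by
      rw [← map_mul, ← map_add, hyz, map_pow, ι.commutes]
    rw [h1]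
    refine Submodule.add_mem_sup (Ideal.mem_span_singleton'.mpr ⟨_, rfl⟩) ?_
    have h2 : ι z ∈ (((maximalIdeal R).map (C : R →+* R[X])).map (algebraMap R[X] E)).map
        ι.toRingHom := Ideal.mem_map_of_mem _ hz
    rw [Ideal.map_map] at h2
    have h3 : ι.toRingHom.comp (algebraMap R[X] E) = algebraMap R[X] B := ι.comp_algebraMap
    rw [h3, map_map_C] at h2
    exact h2
  -- the quotients
  have hle : Ideal.span {fE} ≤ (Ideal.span {ι fE}).comap (algebraMap E B) := by
    rw [Ideal.span_le, Set.singleton_subset_iff]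
    exact Ideal.mem_comap.mpr (Ideal.subset_span rfl)
  let φ₁ : E ⧸ Ideal.span {fE} →+* B ⧸ Ideal.span {ι fE} :=
    Ideal.quotientMap (Ideal.span {ι fE}) (algebraMap E B) hle
  letI : Algebra (E ⧸ Ideal.span {fE}) (B ⧸ Ideal.span {ι fE}) := φ₁.toAlgebra
  haveI : IsScalarTower R (E ⧸ Ideal.span {fE}) (B ⧸ Ideal.span {ι fE}) :=
    IsScalarTower.of_algebraMap_eq (fun r => by
      show Ideal.Quotient.mk _ (algebraMap R B r) =
        φ₁ (Ideal.Quotient.mk _ (algebraMap R E r))
      rw [Ideal.quotientMap_mk, ← IsScalarTower.algebraMap_apply R E B])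
  haveI : Algebra.FinitePresentation R E := Algebra.FinitePresentation.trans R R[X] E
  haveI : Algebra.FinitePresentation R (E ⧸ Ideal.span {fE}) :=
    Algebra.FinitePresentation.quotient (Submodule.fg_span_singleton _)
  -- the henselization property
  have hB₁ : Hens2.IsPairHenselization (E ⧸ Ideal.span {fE})
      ((maximalIdeal R).map (algebraMap R (E ⧸ Ideal.span {fE}))) (B ⧸ Ideal.span {ι fE}) := by
    refine ⟨?_, ?_⟩
    · rw [Ideal.map_map, ← IsScalarTower.algebraMap_eq]
      haveI := henselianRing_sup hB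
      have h3 := henselianRing_map_of_surjective (Ideal.span {𝔱} ⊔ 𝔪B)
        (Ideal.Quotient.mk (Ideal.span {ι fE})) Ideal.Quotient.mk_surjective
      have hle' : (maximalIdeal R).map (algebraMap R (B ⧸ Ideal.span {ι fE})) ≤
          (Ideal.span {𝔱} ⊔ 𝔪B).map (Ideal.Quotient.mk (Ideal.span {ι fE})) := by
        have h4 : (maximalIdeal R).map (algebraMap R (B ⧸ Ideal.span {ι fE})) =
            (𝔪B).map (Ideal.Quotient.mk (Ideal.span {ι fE})) := by
          rw [Ideal.map_map]; rfl
        rw [h4]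
        exact Ideal.map_mono le_sup_right
      exact @Groth.Agent.H1.HenselianRing.of_le _ _ _ _ hle' h3
    · intro C' _ K' g hC' hg
      let g₀ : E →+* C' := g.comp (Ideal.Quotient.mk (Ideal.span {fE}))
      haveI := hC'
      haveI hrad : HenselianRing C' K'.radical := Groth.Agent.H8.HensPair.henselianRing_radical K'
      have hg₀ : ((Ideal.span {(X : R[X])}).map (algebraMap R[X] E)).map g₀ ≤ K'.radical := by
        rw [Ideal.map_span, Set.image_singleton, Ideal.map_span, Set.image_singleton,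
          Ideal.span_le, Set.singleton_subset_iff]
        refine ⟨d, ?_⟩
        rw [← map_pow]
        obtain ⟨y, hy, z, hz, hyz⟩ := Submodule.mem_sup.mp hX
        rw [← hyz, map_add]
        refine K'.add_mem ?_ ?_
        · have h5 : g₀ y = 0 := by
            show g (Ideal.Quotient.mk _ y) = 0
            rw [Ideal.Quotient.eq_zero_iff_mem.mpr hy, map_zero]
          rw [h5]; exact K'.zero_mem
        · apply hg
          have h6 : Ideal.Quotient.mk (Ideal.span {fE}) z ∈
              (maximalIdeal R).map (algebraMap R (E ⧸ Ideal.span {fE})) := by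
            rw [hmE] at hz
            have h7 := Ideal.mem_map_of_mem (Ideal.Quotient.mk (Ideal.span {fE})) hz
            rw [Ideal.map_map] at h7
            exact h7
          exact Ideal.mem_map_of_mem g h6
      obtain ⟨G₀, hG₀, hG₀u⟩ := hBE.2 C' K'.radical g₀ hrad hg₀
      have hG₀f : G₀ (ι fE) = 0 := by
        have h8 : G₀ (algebraMap E B fE) = g₀ fE := RingHom.congr_fun hG₀ fE
        have h9 : g₀ fE = 0 := by
          show g (Ideal.Quotient.mk _ fE) = 0
          rw [Ideal.Quotient.eq_zero_iff_mem.mpr (Ideal.mem_span_singleton_self fE), map_zero]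
        rw [h9] at h8
        exact h8
      let G : B ⧸ Ideal.span {ι fE} →+* C' := Ideal.Quotient.lift (Ideal.span {ι fE}) G₀ (by
        intro x hx
        obtain ⟨c, rfl⟩ := Ideal.mem_span_singleton'.mp hx
        rw [map_mul, hG₀f, mul_zero])
      refine ⟨G, ?_, ?_⟩
      · apply Ideal.Quotient.ringHom_ext
        ext e
        show G (φ₁ (Ideal.Quotient.mk _ e)) = g (Ideal.Quotient.mk _ e)
        rw [Ideal.quotientMap_mk, Ideal.Quotient.lift_mk]
        exact RingHom.congr_fun hG₀ e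
      · intro G' hG'
        have h1 : G'.comp (Ideal.Quotient.mk (Ideal.span {ι fE})) = G₀ := by
          apply hG₀u
          ext e
          have h10 := RingHom.congr_fun hG' (Ideal.Quotient.mk _ e)
          show G' (Ideal.Quotient.mk _ (algebraMap E B e)) = g (Ideal.Quotient.mk _ e)
          rw [← h10]
          show _ = G' (φ₁ (Ideal.Quotient.mk _ e))
          rw [Ideal.quotientMap_mk]
        apply Ideal.Quotient.ringHom_ext
        rw [h1]
        ext b
        show G₀ b = G (Ideal.Quotient.mk _ b)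
        rw [Ideal.Quotient.lift_mk]
  -- finiteness modulo `m`
  have hMF : Module.Finite R ((B ⧸ Ideal.span {ι fE}) ⧸
      (maximalIdeal R).map (algebraMap R (B ⧸ Ideal.span {ι fE}))) := by
    let π₁ : B →+* B ⧸ Ideal.span {ι fE} := Ideal.Quotient.mk _
    let π₂ : B ⧸ Ideal.span {ι fE} →+* (B ⧸ Ideal.span {ι fE}) ⧸
      (maximalIdeal R).map (algebraMap R (B ⧸ Ideal.span {ι fE})) := Ideal.Quotient.mk _
    have hπm : ∀ z ∈ 𝔪B, π₂ (π₁ z) = 0 := by
      intro z hz
      apply Ideal.Quotient.eq_zero_iff_mem.mpr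
      have h7 := Ideal.mem_map_of_mem π₁ hz
      rw [Ideal.map_map] at h7
      exact h7
    have hτ : π₂ (π₁ (𝔱 ^ d)) = 0 := by
      obtain ⟨y, hy, z, hz, hyz⟩ := Submodule.mem_sup.mp htd
      rw [← hyz, map_add, map_add, Ideal.Quotient.eq_zero_iff_mem.mpr hy, map_zero, zero_add]
      exact hπm z hz
    let v : Fin d → (B ⧸ Ideal.span {ι fE}) ⧸
      (maximalIdeal R).map (algebraMap R (B ⧸ Ideal.span {ι fE})) := fun i => π₂ (π₁ (𝔱 ^ (i : ℕ)))
    have hspan : Submodule.span R (Set.range v) = ⊤ := by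
      rw [eq_top_iff]
      intro x _
      obtain ⟨x₁, rfl⟩ := Ideal.Quotient.mk_surjective x
      obtain ⟨b, rfl⟩ := Ideal.Quotient.mk_surjective x₁
      obtain ⟨p, hpd, hp⟩ := exists_degree_lt_sub_mem hB d b
      obtain ⟨c, hc⟩ := Ideal.mem_span_singleton'.mp hp
      have hb : b = algebraMap R[X] B p + c * 𝔱 ^ d := by rw [hc]; ring
      have h11 : π₂ (π₁ b) = π₂ (π₁ (algebraMap R[X] B p)) := by
        conv_lhs => rw [hb]
        rw [map_add, map_add, map_mul, map_mul, hτ, mul_zero, add_zero]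
      show π₂ (π₁ b) ∈ _
      rw [h11, algebraMap_eq_sum hpd, map_sum, map_sum]
      refine Submodule.sum_mem _ fun i _ => ?_
      have h12 : π₂ (π₁ (algebraMap R B (p.coeff i) * 𝔱 ^ (i : ℕ))) = (p.coeff i) • v i := by
        rw [map_mul, map_mul]
        exact (Algebra.smul_def (p.coeff i) (v i)).symm
      rw [h12]
      exact Submodule.smul_mem _ _ (Submodule.subset_span ⟨i, rfl⟩)
    exact ⟨hspan ▸ Submodule.fg_span (Set.finite_range v)⟩
  have hfin : (Ideal.quotientMap ((maximalIdeal R).map (algebraMap R (B ⧸ Ideal.span {ι fE})))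
      (algebraMap R (B ⧸ Ideal.span {ι fE})) Ideal.le_comap_map).Finite := by
    have h1 : (algebraMap R ((B ⧸ Ideal.span {ι fE}) ⧸
        (maximalIdeal R).map (algebraMap R (B ⧸ Ideal.span {ι fE})))).Finite :=
      RingHom.finite_algebraMap.mpr hMF
    have h2 : algebraMap R ((B ⧸ Ideal.span {ι fE}) ⧸
        (maximalIdeal R).map (algebraMap R (B ⧸ Ideal.span {ι fE}))) =
        (Ideal.quotientMap ((maximalIdeal R).map (algebraMap R (B ⧸ Ideal.span {ι fE})))
          (algebraMap R (B ⧸ Ideal.span {ι fE})) Ideal.le_comap_map).comp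
            (Ideal.Quotient.mk (maximalIdeal R)) := by
      ext r
      rfl
    rw [h2] at h1
    exact RingHom.Finite.of_comp_finite h1
  exact (ZMT.finite_of_hfin R (maximalIdeal R) (E ⧸ Ideal.span {fE}) (B ⧸ Ideal.span {ι fE})
    hB₁ hfin).1

/-- **Finiteness**: if `t^d ∈ (f, m)B` then `B/(f)` is a finite `R`-module. -/
theorem finite_quotient
    (hB : Hens2.IsPairHenselization R[X] (Ideal.span {(X : R[X])}) B) (f : B) (d : ℕ)
    (hfd : 𝔱 ^ d ∈ Ideal.span {f} ⊔ 𝔪B) : Module.Finite R (B ⧸ Ideal.span {f}) := by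
  classical
  obtain ⟨y, hy, z, hz, hyz⟩ := Submodule.mem_sup.mp hfd
  obtain ⟨w, rfl⟩ := Ideal.mem_span_singleton'.mp hy
  obtain ⟨E₁, _, _, _, h₁, φ₁, hφ₁⟩ := exists_isoMod_of_finset hB ({f, w} : Finset B)
  obtain ⟨f₁, hf₁⟩ := hφ₁ f (by simp)
  obtain ⟨w₁, hw₁⟩ := hφ₁ w (by simp)
  have hx : φ₁ ((algebraMap R[X] E₁ X) ^ d - w₁ * f₁) ∈
      ((maximalIdeal R).map (C : R →+* R[X])).map (algebraMap R[X] B) := by
    rw [map_map_C, map_sub, map_pow, φ₁.commutes, map_mul, hf₁, hw₁, ← hyz, add_sub_cancel_left]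
    exact hz
  obtain ⟨E₂, _, _, _, h₂, ψ, hψ⟩ := exists_isoMod_mem_map hB _ E₁ h₁ φ₁ _ hx
  obtain ⟨ι₂⟩ := exists_algHom_of_isoMod hB E₂ h₂
  have e1 : ι₂.comp ψ = φ₁ := algHom_ext_of_isoMod hB E₁ h₁ _ _
  have hιf : ι₂ (ψ f₁) = f := by rw [← AlgHom.comp_apply, e1, hf₁]
  have hX : (algebraMap R[X] E₂ X) ^ d ∈ Ideal.span {ψ f₁} ⊔
      ((maximalIdeal R).map (C : R →+* R[X])).map (algebraMap R[X] E₂) := by
    have h3 : (algebraMap R[X] E₂ X) ^ d =
        ψ w₁ * ψ f₁ + ψ ((algebraMap R[X] E₁ X) ^ d - w₁ * f₁) := by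
      rw [map_sub, map_pow, ψ.commutes, map_mul]; ring
    rw [h3]
    exact Submodule.add_mem_sup (Ideal.mem_span_singleton'.mpr ⟨_, rfl⟩) hψ
  have := finite_quotient_of_descent hB E₂ h₂ ι₂ (ψ f₁) d hX
  rwa [hιf] at this

end Finite

end Groth.Agent.H8.Weier
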