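import Mathlib
import Groth.Prelude.Def_Hens2
import Groth.Agent.Lib.Helper8.Weier.Basic
import Groth.Agent.Lib.Helper8.PairHens.Quotient
import Groth.Agent.Lib.Helper8.PairHens.NoethPair

/-!
# Krull intersection in `B / mB` and the Weierstrass degree
-/

set_option autoImplicit false
universe u
open Polynomial IsLocalRing

namespace Groth.Agent.H8.Weier

open Groth.Agent.H8.PairHens

section Krull

variable {R : Type u} [CommRing R] [IsLocalRing R] {B : Type u} [CommRing B] [Algebra R B]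
  [Algebra R[X] B] [IsScalarTower R R[X] B]

local notation "𝔱" => (algebraMap (Polynomial R) B (Polynomial.X : Polynomial R))
local notation "𝔪B" => (Ideal.map (algebraMap R B) (IsLocalRing.maximalIdeal R))

/-- `B/mB` is Noetherian and `t` lies in its Jacobson radical. -/
theorem noetherian_quotient
    (hB : Hens2.IsPairHenselization R[X] (Ideal.span {(X : R[X])}) B) :
    IsNoetherianRing (B ⧸ 𝔪B) ∧
      Ideal.Quotient.mk 𝔪B 𝔱 ∈ Ideal.jacobson (⊥ : Ideal (B ⧸ 𝔪B)) := by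
  let π : B →+* B ⧸ 𝔪B := Ideal.Quotient.mk 𝔪B
  let κ : ResidueField R →+* B ⧸ 𝔪B :=
    Ideal.Quotient.lift (maximalIdeal R) (π.comp (algebraMap R B)) (fun r hr => by
      rw [RingHom.comp_apply]
      exact Ideal.Quotient.eq_zero_iff_mem.mpr (Ideal.mem_map_of_mem _ hr))
  have hκ : ∀ r : R, κ (residue R r) = π (algebraMap R B r) := fun r => rfl
  let g : (ResidueField R)[X] →+* B ⧸ 𝔪B := Polynomial.eval₂RingHom κ (π 𝔱)
  letI : Algebra (ResidueField R)[X] (B ⧸ 𝔪B) := g.toAlgebra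
  let q : R[X] →+* (ResidueField R)[X] := Polynomial.mapRingHom (residue R)
  have hq : Function.Surjective q := Polynomial.map_surjective _ IsLocalRing.residue_surjective
  have hcomm : π.comp (algebraMap R[X] B) = (algebraMap (ResidueField R)[X] (B ⧸ 𝔪B)).comp q := by
    refine Polynomial.ringHom_ext (fun r => ?_) ?_
    · show π (algebraMap R[X] B (C r)) = g (Polynomial.map (residue R) (C r))
      rw [Polynomial.map_C, Polynomial.coe_eval₂RingHom, eval₂_C, hκ, algebraMap_C]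
    · show π (algebraMap R[X] B X) = g (Polynomial.map (residue R) X)
      rw [Polynomial.map_X, Polynomial.coe_eval₂RingHom, eval₂_X]
  have hker : RingHom.ker π = (RingHom.ker q).map (algebraMap R[X] B) := by
    rw [Ideal.mk_ker, Polynomial.ker_mapRingHom, IsLocalRing.ker_residue, map_map_C]
  have hC := isPairHenselization_of_surjective hB q hq π Ideal.Quotient.mk_surjective hcomm hker
  refine ⟨(NoethPair.main (ResidueField R)[X] _ (B ⧸ 𝔪B) hC).1, ?_⟩
  have hπt : algebraMap (ResidueField R)[X] (B ⧸ 𝔪B) (q X) = π 𝔱 := by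
    show g (Polynomial.map (residue R) X) = π 𝔱
    rw [Polynomial.map_X, Polynomial.coe_eval₂RingHom, eval₂_X]
  apply hC.1.jac
  rw [← hπt]
  exact Ideal.mem_map_of_mem _ (Ideal.mem_map_of_mem _ (Ideal.subset_span rfl))

/-- Krull intersection in a Noetherian ring, principal form. -/
theorem eq_zero_of_forall_mem_span_pow {A : Type*} [CommRing A] [IsNoetherianRing A] (a x : A)
    (ha : a ∈ Ideal.jacobson (⊥ : Ideal A)) (hx : ∀ n : ℕ, x ∈ Ideal.span {a ^ n}) : x = 0 := by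
  have hJ : Ideal.span {a} ≤ Ideal.jacobson (⊥ : Ideal A) := by
    rw [Ideal.span_le, Set.singleton_subset_iff]; exact ha
  have hK := Ideal.iInf_pow_smul_eq_bot_of_le_jacobson (M := A) (Ideal.span {a}) hJ
  have hK' : (⨅ i : ℕ, Ideal.span {a ^ i} : Ideal A) = ⊥ := by
    rw [← hK]
    congr 1
    funext i
    rw [smul_eq_mul, Ideal.mul_top, Ideal.span_singleton_pow]
  have hmem : x ∈ (⨅ i : ℕ, Ideal.span {a ^ i} : Ideal A) := by
    rw [Ideal.mem_iInf]
    exact hx
  rw [hK', Ideal.mem_bot] at hmem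
  exact hmem

/-- `∩ (t^n, m)B = mB`: Krull's intersection theorem in the Noetherian ring `B/mB`. -/
theorem exists_notMem_pow
    (hB : Hens2.IsPairHenselization R[X] (Ideal.span {(X : R[X])}) B) (f : B) (hf : f ∉ 𝔪B) :
    ∃ n : ℕ, f ∉ Ideal.span {𝔱 ^ n} ⊔ 𝔪B := by
  by_contra hcon
  push Not at hcon
  apply hf
  obtain ⟨hN, hjac⟩ := noetherian_quotient hB
  haveI := hN
  rw [← Ideal.Quotient.eq_zero_iff_mem]
  apply eq_zero_of_forall_mem_span_pow _ _ hjac
  intro n
  obtain ⟨y, hy, z, hz, hyz⟩ := Submodule.mem_sup.mp (hcon n)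
  obtain ⟨c, rfl⟩ := Ideal.mem_span_singleton'.mp hy
  rw [← hyz, map_add, map_mul, map_pow, Ideal.Quotient.eq_zero_iff_mem.mpr hz, add_zero]
  exact Ideal.mem_span_singleton'.mpr ⟨_, rfl⟩

/-- The Weierstrass degree: `f ≡ t^d · unit` modulo `mB`. -/
theorem exists_pow_unit
    (hB : Hens2.IsPairHenselization R[X] (Ideal.span {(X : R[X])}) B) (f : B) (hf : f ∉ 𝔪B) :
    ∃ (d : ℕ) (u : Bˣ), f - 𝔱 ^ d * (u : B) ∈ 𝔪B := by
  classical
  obtain ⟨ρ, hρ⟩ := exists_rho hB
  have hex := exists_notMem_pow hB f hf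
  have hN := Nat.find_spec hex
  have hN0 : Nat.find hex ≠ 0 := by
    intro h0
    rw [h0, pow_zero, Ideal.span_singleton_one] at hN
    exact hN (Submodule.mem_sup_left Submodule.mem_top)
  obtain ⟨d, hd⟩ := Nat.exists_eq_succ_of_ne_zero hN0
  have hmin : ¬ (f ∉ Ideal.span {𝔱 ^ d} ⊔ 𝔪B) := Nat.find_min hex (by omega)
  rw [not_not] at hmin
  obtain ⟨y, hy, z, hz, hyz⟩ := Submodule.mem_sup.mp hmin
  obtain ⟨g, rfl⟩ := Ideal.mem_span_singleton'.mp hy
  have hg : IsUnit g := by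
    by_contra hg
    obtain ⟨y', hy', z', hz', rfl⟩ := Submodule.mem_sup.mp (mem_sup_of_not_isUnit hB ρ hρ g hg)
    obtain ⟨c', rfl⟩ := Ideal.mem_span_singleton'.mp hy'
    apply hN
    rw [hd, ← hyz]
    have h1 : (c' * 𝔱 + z') * 𝔱 ^ d + z = c' * 𝔱 ^ (d + 1) + (z' * 𝔱 ^ d + z) := by ring
    rw [h1]
    exact Submodule.add_mem_sup (Ideal.mem_span_singleton'.mpr ⟨_, rfl⟩)
      (Ideal.add_mem _ (Ideal.mul_mem_right _ _ hz') hz)
  refine ⟨d, hg.unit, ?_⟩
  have h2 : f - 𝔱 ^ d * (hg.unit : B) = z := by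
    rw [← hyz, IsUnit.unit_spec]; ring
  rw [h2]
  exact hz

end Krull

end Groth.Agent.H8.Weier
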