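import Mathlib
import Groth.Prelude.Def_Hens2
import Groth.Agent.Lib.Helper8.Weier.Basic
import Groth.Agent.Lib.Helper8.PairHens.Quotient
import Groth.Agent.Lib.Helper8.HensPair.Radical
import Groth.Agent.S0526

/-!
# `B/(P) = R[X]/(P)` for a Weierstrass polynomial `P`
-/

set_option autoImplicit false
universe u
open Polynomial IsLocalRing

namespace Groth.Agent.H8.Weier

open Groth.Agent.H8.PairHens

theorem isPairHenselization_self {A : Type u} [CommRing A] (I : Ideal A) [h : HenselianRing A I] :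
    Hens2.IsPairHenselization A I A := by
  refine ⟨?_, ?_⟩
  · rw [Algebra.algebraMap_self, Ideal.map_id]
    exact h
  · intro C _ J f _ _
    refine ⟨f, ?_, ?_⟩
    · ext x; simp
    · intro g hg
      rw [← hg]
      ext x; simp

section WPoly

variable {R : Type u} [CommRing R] [HenselianLocalRing R] {B : Type u} [CommRing B] [Algebra R B]
  [Algebra R[X] B] [IsScalarTower R R[X] B]

theorem span_le_comap (P : R[X]) :
    Ideal.span {P} ≤ (Ideal.span {algebraMap R[X] B P}).comap (algebraMap R[X] B) := by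
  rw [Ideal.span_le, Set.singleton_subset_iff]
  exact Ideal.mem_comap.mpr (Ideal.subset_span rfl)

/-- In `R[X]/(P)` with `P` a Weierstrass polynomial, `X^deg P ∈ m·R[X]/(P)`. -/
theorem mk_X_pow_mem (P : R[X]) (hP : P.Monic)
    (hPm : ∀ i, i < P.natDegree → P.coeff i ∈ maximalIdeal R) :
    (Ideal.Quotient.mk (Ideal.span {P}) X) ^ P.natDegree ∈
      (maximalIdeal R).map (algebraMap R (R[X] ⧸ Ideal.span {P})) := by
  have h0 : Ideal.Quotient.mk (Ideal.span {P}) P = 0 :=
    Ideal.Quotient.eq_zero_iff_mem.mpr (Ideal.subset_span rfl)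
  have h1 : Ideal.Quotient.mk (Ideal.span {P}) X ^ P.natDegree =
      - ∑ i ∈ Finset.range P.natDegree,
        algebraMap R (R[X] ⧸ Ideal.span {P}) (P.coeff i) * Ideal.Quotient.mk (Ideal.span {P}) X ^ i := by
    have h2 : Ideal.Quotient.mk (Ideal.span {P})
        (X ^ P.natDegree + ∑ i ∈ Finset.range P.natDegree, C (P.coeff i) * X ^ i) = 0 := by
      rw [← hP.as_sum]; exact h0
    rw [map_add, map_pow, map_sum] at h2
    rw [eq_neg_iff_add_eq_zero, ← h2]
    congr 1
  rw [h1]
  refine Ideal.neg_mem_iff _ |>.mpr (Ideal.sum_mem _ fun i hi => ?_)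
  exact Ideal.mul_mem_right _ _ (Ideal.mem_map_of_mem _ (hPm i (Finset.mem_range.mp hi)))

/-- **Weierstrass polynomial case**: `R[X]/(P) → B/(P)` is bijective. -/
theorem bijective_quotientMap_weierstrass
    (hB : Hens2.IsPairHenselization R[X] (Ideal.span {(X : R[X])}) B)
    (P : R[X]) (hP : P.Monic) (hPm : ∀ i, i < P.natDegree → P.coeff i ∈ maximalIdeal R) :
    Function.Bijective (Ideal.quotientMap (Ideal.span {algebraMap R[X] B P})
      (algebraMap R[X] B) (span_le_comap P)) := by
  let q₁ : R[X] →+* R[X] ⧸ Ideal.span {P} := Ideal.Quotient.mk _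
  let π' : B →+* B ⧸ Ideal.span {algebraMap R[X] B P} := Ideal.Quotient.mk _
  let φ : R[X] ⧸ Ideal.span {P} →+* B ⧸ Ideal.span {algebraMap R[X] B P} :=
    Ideal.quotientMap (Ideal.span {algebraMap R[X] B P}) (algebraMap R[X] B) (span_le_comap P)
  letI : Algebra (R[X] ⧸ Ideal.span {P}) (B ⧸ Ideal.span {algebraMap R[X] B P}) := φ.toAlgebra
  have hcomm : π'.comp (algebraMap R[X] B) =
      (algebraMap (R[X] ⧸ Ideal.span {P}) (B ⧸ Ideal.span {algebraMap R[X] B P})).comp q₁ :=
    RingHom.ext fun x => (Ideal.quotientMap_mk (f := algebraMap R[X] B)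
      (H := span_le_comap P)).symm
  have hker : RingHom.ker π' = (RingHom.ker q₁).map (algebraMap R[X] B) := by
    rw [Ideal.mk_ker, Ideal.mk_ker, Ideal.map_span, Set.image_singleton]
  have hB' := isPairHenselization_of_surjective hB q₁ Ideal.Quotient.mk_surjective π'
    Ideal.Quotient.mk_surjective hcomm hker
  haveI : Module.Finite R (R[X] ⧸ Ideal.span {P}) := hP.finite_quotient
  haveI : Algebra.IsIntegral R (R[X] ⧸ Ideal.span {P}) := Algebra.IsIntegral.of_finite R _
  haveI h1 : HenselianRing (R[X] ⧸ Ideal.span {P})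
      ((maximalIdeal R).map (algebraMap R (R[X] ⧸ Ideal.span {P}))) :=
    Groth.Agent.S0526.result R (maximalIdeal R) (R[X] ⧸ Ideal.span {P})
  have hle : (Ideal.span {(X : R[X])}).map q₁ ≤
      ((maximalIdeal R).map (algebraMap R (R[X] ⧸ Ideal.span {P}))).radical := by
    rw [Ideal.map_span, Set.image_singleton, Ideal.span_le, Set.singleton_subset_iff]
    exact ⟨P.natDegree, mk_X_pow_mem P hP hPm⟩
  haveI h2 : HenselianRing (R[X] ⧸ Ideal.span {P}) ((Ideal.span {(X : R[X])}).map q₁) := by
    haveI := Groth.Agent.H8.HensPair.henselianRing_radical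
      ((maximalIdeal R).map (algebraMap R (R[X] ⧸ Ideal.span {P})))
    exact Groth.Agent.H8.HensPair.henselianRing_of_le hle
  have hself := isPairHenselization_self ((Ideal.span {(X : R[X])}).map q₁)
  obtain ⟨e⟩ := nonempty_algEquiv_of_isPairHenselization hself hB'
  have he : ∀ x, e x = φ x := by
    intro x
    have := e.commutes x
    rw [Algebra.algebraMap_self_apply] at this
    exact this
  have : (φ : R[X] ⧸ Ideal.span {P} → B ⧸ Ideal.span {algebraMap R[X] B P}) = e :=
    funext fun x => (he x).symm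
  show Function.Bijective φ
  rw [this]
  exact e.bijective

/-- every element of `B` is a polynomial modulo `P`. -/
theorem exists_sub_mem_span
    (hB : Hens2.IsPairHenselization R[X] (Ideal.span {(X : R[X])}) B)
    (P : R[X]) (hP : P.Monic) (hPm : ∀ i, i < P.natDegree → P.coeff i ∈ maximalIdeal R)
    (b : B) : ∃ q : R[X], algebraMap R[X] B q - b ∈ Ideal.span {algebraMap R[X] B P} := by
  obtain ⟨x, hx⟩ := (bijective_quotientMap_weierstrass hB P hP hPm).2 (Ideal.Quotient.mk _ b)
  obtain ⟨q, rfl⟩ := Ideal.Quotient.mk_surjective x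
  rw [Ideal.quotientMap_mk] at hx
  exact ⟨q, Ideal.Quotient.eq.mp hx⟩

/-- a polynomial divisible by `P` in `B` is divisible by `P` in `R[X]`. -/
theorem dvd_of_algebraMap_mem_span
    (hB : Hens2.IsPairHenselization R[X] (Ideal.span {(X : R[X])}) B)
    (P : R[X]) (hP : P.Monic) (hPm : ∀ i, i < P.natDegree → P.coeff i ∈ maximalIdeal R)
    (q : R[X]) (hq : algebraMap R[X] B q ∈ Ideal.span {algebraMap R[X] B P}) :
    q ∈ Ideal.span {P} := by
  have h1 : Ideal.quotientMap (Ideal.span {algebraMap R[X] B P}) (algebraMap R[X] B)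
      (span_le_comap P) (Ideal.Quotient.mk _ q) = 0 := by
    rw [Ideal.quotientMap_mk]
    exact Ideal.Quotient.eq_zero_iff_mem.mpr hq
  have h2 := (bijective_quotientMap_weierstrass hB P hP hPm).1 (h1.trans (map_zero _).symm)
  exact Ideal.Quotient.eq_zero_iff_mem.mp h2

/-- ring homs out of `B` killing `P` are determined by their restriction to `R[X]`. -/
theorem ringHom_ext_of_weierstrass
    (hB : Hens2.IsPairHenselization R[X] (Ideal.span {(X : R[X])}) B)
    (P : R[X]) (hP : P.Monic) (hPm : ∀ i, i < P.natDegree → P.coeff i ∈ maximalIdeal R)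
    {T : Type*} [CommRing T] (F G : B →+* T)
    (hFG : F.comp (algebraMap R[X] B) = G.comp (algebraMap R[X] B))
    (hF : F (algebraMap R[X] B P) = 0) (hG : G (algebraMap R[X] B P) = 0) : F = G := by
  ext b
  obtain ⟨q, hq⟩ := exists_sub_mem_span hB P hP hPm b
  obtain ⟨c, hc⟩ := Ideal.mem_span_singleton'.mp hq
  have hb : b = algebraMap R[X] B q - c * algebraMap R[X] B P := by rw [hc]; ring
  have h1 : F (algebraMap R[X] B q) = G (algebraMap R[X] B q) := RingHom.congr_fun hFG q
  rw [hb, map_sub, map_sub, map_mul, map_mul, hF, hG, h1, mul_zero, mul_zero]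

end WPoly

end Groth.Agent.H8.Weier
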