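import Mathlib
import Groth.Prelude.Def_Hens2
import Groth.Agent.Lib.Helper8.Weier.Basic
import Groth.Agent.Lib.Helper8.Weier.Krull
import Groth.Agent.Lib.Helper8.Weier.WPoly
import Groth.Agent.Lib.Helper8.Weier.Finite

/-!
# Weierstrass preparation in the henselization of `(R[X], (X))`, `R` henselian local
-/

set_option autoImplicit false
universe u
open Polynomial IsLocalRing

namespace Groth.Agent.H8.Weier

open Groth.Agent.H8.PairHens

section Main

variable {R : Type u} [CommRing R] [HenselianLocalRing R] {B : Type u} [CommRing B] [Algebra R B]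
  [Algebra R[X] B] [IsScalarTower R R[X] B]

local notation "𝔱" => (algebraMap (Polynomial R) B (Polynomial.X : Polynomial R))
local notation "𝔪B" => (Ideal.map (algebraMap R B) (IsLocalRing.maximalIdeal R))

/-- **Weierstrass preparation, existence.** -/
theorem exists_weierstrass
    (hB : Hens2.IsPairHenselization R[X] (Ideal.span {(X : R[X])}) B) (f : B) (hf : f ∉ 𝔪B) :
    ∃ (P : R[X]) (u : Bˣ), P.Monic ∧ (∀ i : ℕ, i < P.natDegree → P.coeff i ∈ maximalIdeal R) ∧
      f = algebraMap R[X] B P * (u : B) := by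
  obtain ⟨ρ, hρ⟩ := exists_rho hB
  obtain ⟨Φ, hΦ⟩ := exists_Phi hB
  obtain ⟨d, u₀, hu₀⟩ := exists_pow_unit hB f hf
  have hf_mem : f ∈ Ideal.span {𝔱 ^ d} ⊔ 𝔪B := by
    have h1 : f = (u₀ : B) * 𝔱 ^ d + (f - 𝔱 ^ d * (u₀ : B)) := by ring
    rw [h1]
    exact Submodule.add_mem_sup (Ideal.mem_span_singleton'.mpr ⟨_, rfl⟩) hu₀
  have htd : 𝔱 ^ d ∈ Ideal.span {f} ⊔ 𝔪B := by
    have h1 : 𝔱 ^ d = ((u₀⁻¹ : Bˣ) : B) * f + (-((u₀⁻¹ : Bˣ) : B)) * (f - 𝔱 ^ d * (u₀ : B)) := by
      have h2 : ((u₀⁻¹ : Bˣ) : B) * (u₀ : B) = 1 := Units.inv_mul u₀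
      linear_combination (-(𝔱 ^ d)) * h2
    rw [h1]
    exact Submodule.add_mem_sup (Ideal.mem_span_singleton'.mpr ⟨_, rfl⟩)
      (Ideal.mul_mem_left _ _ hu₀)
  haveI := finite_quotient hB f d htd
  let π : B →+* B ⧸ Ideal.span {f} := Ideal.Quotient.mk _
  let v : Fin d → B ⧸ Ideal.span {f} := fun i => π (𝔱 ^ (i : ℕ))
  have hN : (⊤ : Submodule R (B ⧸ Ideal.span {f})) ≤ Submodule.span R (Set.range v) := by
    apply Submodule.le_of_le_smul_of_le_jacobson_bot Module.Finite.fg_top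
      (IsLocalRing.maximalIdeal_le_jacobson ⊥)
    intro x _
    obtain ⟨b, rfl⟩ := Ideal.Quotient.mk_surjective x
    obtain ⟨p, hpd, hp⟩ := exists_degree_lt_sub_mem hB d b
    obtain ⟨c, hc⟩ := Ideal.mem_span_singleton'.mp hp
    obtain ⟨y, hy, z, hz, hyz⟩ := Submodule.mem_sup.mp htd
    have hb : b = algebraMap R[X] B p + c * (y + z) := by rw [hyz, hc]; ring
    have e1 : π b = π (algebraMap R[X] B p) + π (c * z) := by
      conv_lhs => rw [hb]
      rw [map_add, map_mul, map_add, Ideal.Quotient.eq_zero_iff_mem.mpr hy, zero_add, map_mul]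
    show π b ∈ _
    rw [e1]
    apply Submodule.add_mem_sup
    · rw [algebraMap_eq_sum hpd, map_sum]
      refine Submodule.sum_mem _ fun i _ => ?_
      have h12 : π (algebraMap R B (p.coeff i) * 𝔱 ^ (i : ℕ)) = (p.coeff i) • v i := by
        rw [map_mul]
        exact (Algebra.smul_def (p.coeff i) (v i)).symm
      rw [h12]
      exact Submodule.smul_mem _ _ (Submodule.subset_span ⟨i, rfl⟩)
    · rw [Ideal.smul_top_eq_map]
      show π (c * z) ∈ (maximalIdeal R).map (algebraMap R (B ⧸ Ideal.span {f}))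
      have h7 := Ideal.mem_map_of_mem π (Ideal.mul_mem_left _ c hz)
      rw [Ideal.map_map] at h7
      exact h7
  have hd : π (𝔱 ^ d) ∈ Submodule.span R (Set.range v) := hN Submodule.mem_top
  obtain ⟨c, hc⟩ := (Submodule.mem_span_range_iff_exists_fun R).mp hd
  let q : R[X] := ∑ i : Fin d, C (c i) * X ^ (i : ℕ)
  have hq : q.degree < d := degree_sum_fin_lt c
  have hqd : q.degree < (X ^ d : R[X]).degree := by rwa [degree_X_pow]
  have hPmonic : (X ^ d - q).Monic := (monic_X_pow d).sub_of_left hqd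
  have hPdeg : (X ^ d - q).natDegree = d := by
    apply natDegree_eq_of_degree_eq_some
    rw [degree_sub_eq_left_of_degree_lt hqd, degree_X_pow]
  have hPf : algebraMap R[X] B (X ^ d - q) ∈ Ideal.span {f} := by
    rw [← Ideal.Quotient.eq_zero_iff_mem]
    show π (algebraMap R[X] B (X ^ d - q)) = 0
    rw [map_sub, map_sub, map_pow, ← hc, sub_eq_zero]
    show _ = π (algebraMap R[X] B (∑ i : Fin d, C (c i) * X ^ (i : ℕ)))
    rw [map_sum, map_sum]
    refine Finset.sum_congr rfl fun i _ => ?_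
    rw [map_mul, map_pow, algebraMap_C, map_mul]
    exact Algebra.smul_def (c i) (v i)
  obtain ⟨vv, hvv⟩ := Ideal.mem_span_singleton'.mp hPf
  have hPcoef : ∀ i : ℕ, i < (X ^ d - q).natDegree → (X ^ d - q).coeff i ∈ maximalIdeal R := by
    rw [hPdeg]
    apply coeff_mem_of_algebraMap_mem Φ hΦ d
    rw [← hvv]
    exact Ideal.mul_mem_left _ vv hf_mem
  have hvu : IsUnit vv := by
    by_contra hnu
    have h1 := mem_sup_of_not_isUnit hB ρ hρ vv hnu
    have h2 : algebraMap R[X] B (X ^ d - q) ∈ Ideal.span {𝔱 ^ (d + 1)} ⊔ 𝔪B := by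
      rw [← hvv]
      obtain ⟨y1, hy1, z1, hz1, h1e⟩ := Submodule.mem_sup.mp h1
      obtain ⟨y2, hy2, z2, hz2, h2e⟩ := Submodule.mem_sup.mp hf_mem
      obtain ⟨a1, rfl⟩ := Ideal.mem_span_singleton'.mp hy1
      obtain ⟨a2, rfl⟩ := Ideal.mem_span_singleton'.mp hy2
      have h3 : vv * f = (a1 * a2) * 𝔱 ^ (d + 1) + (z1 * (a2 * 𝔱 ^ d + z2) + a1 * 𝔱 * z2) := by
        rw [← h1e, ← h2e]; ring
      rw [h3]
      exact Submodule.add_mem_sup (Ideal.mem_span_singleton'.mpr ⟨_, rfl⟩)
        (Ideal.add_mem _ (Ideal.mul_mem_right _ _ hz1) (Ideal.mul_mem_left _ _ hz2))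
    have h3 := coeff_mem_of_algebraMap_mem Φ hΦ (d + 1) _ h2 d (Nat.lt_succ_self d)
    have h4 : (X ^ d - q).coeff d = 1 := by
      have := hPmonic.coeff_natDegree
      rwa [hPdeg] at this
    rw [h4] at h3
    exact (Ideal.ne_top_iff_one _).mp (IsLocalRing.maximalIdeal.isMaximal R).ne_top h3
  refine ⟨X ^ d - q, hvu.unit⁻¹, hPmonic, hPcoef, ?_⟩
  rw [← hvv, mul_comm vv f, mul_assoc, IsUnit.mul_val_inv, mul_one]

/-- **Weierstrass preparation, the quotient.** -/
theorem weierstrass_props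
    (hB : Hens2.IsPairHenselization R[X] (Ideal.span {(X : R[X])}) B) (f : B)
    (P : R[X]) (u : Bˣ) (hP : P.Monic)
    (hPm : ∀ i : ℕ, i < P.natDegree → P.coeff i ∈ maximalIdeal R)
    (hfP : f = algebraMap R[X] B P * (u : B)) :
    (∀ b : B, ∃ q : R[X], algebraMap R[X] B q - b ∈ Ideal.span {f}) ∧
      (∀ q : R[X], algebraMap R[X] B q ∈ Ideal.span {f} → q ∈ Ideal.span {P}) := by
  have hspan : Ideal.span {f} = Ideal.span {algebraMap R[X] B P} := by
    rw [hfP, Ideal.span_singleton_mul_right_unit u.isUnit]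
  rw [hspan]
  exact ⟨fun b => exists_sub_mem_span hB P hP hPm b,
    fun q hq => dvd_of_algebraMap_mem_span hB P hP hPm q hq⟩

/-- **Weierstrass preparation, uniqueness.** -/
theorem weierstrass_unique
    (hB : Hens2.IsPairHenselization R[X] (Ideal.span {(X : R[X])}) B) (f : B)
    (P P' : R[X]) (u u' : Bˣ) (hP : P.Monic) (hP' : P'.Monic)
    (hPm : ∀ i : ℕ, i < P.natDegree → P.coeff i ∈ maximalIdeal R)
    (hPm' : ∀ i : ℕ, i < P'.natDegree → P'.coeff i ∈ maximalIdeal R)
    (hfP : f = algebraMap R[X] B P * (u : B)) (hfP' : f = algebraMap R[X] B P' * (u' : B)) :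
    P = P' ∧ u = u' := by
  have hspan : Ideal.span {f} = Ideal.span {algebraMap R[X] B P} := by
    rw [hfP, Ideal.span_singleton_mul_right_unit u.isUnit]
  have hspan' : Ideal.span {f} = Ideal.span {algebraMap R[X] B P'} := by
    rw [hfP', Ideal.span_singleton_mul_right_unit u'.isUnit]
  have h1 : P' ∈ Ideal.span {P} := (weierstrass_props hB f P u hP hPm hfP).2 P'
    (by rw [hspan']; exact Ideal.mem_span_singleton_self _)
  have h2 : P ∈ Ideal.span {P'} := (weierstrass_props hB f P' u' hP' hPm' hfP').2 P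
    (by rw [hspan]; exact Ideal.mem_span_singleton_self _)
  have hPP : P = P' := by
    obtain ⟨c, hc⟩ := Ideal.mem_span_singleton.mp h1
    obtain ⟨c', hc'⟩ := Ideal.mem_span_singleton.mp h2
    have hc0 : c ≠ 0 := by
      rintro rfl
      rw [mul_zero] at hc
      exact hP'.ne_zero hc
    have hc0' : c' ≠ 0 := by
      rintro rfl
      rw [mul_zero] at hc'
      exact hP.ne_zero hc'
    have hdeg1 : P'.natDegree = P.natDegree + c.natDegree := by
      conv_lhs => rw [hc]
      exact hP.natDegree_mul' hc0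
    have hdeg2 : P.natDegree = P'.natDegree + c'.natDegree := by
      conv_lhs => rw [hc']
      exact hP'.natDegree_mul' hc0'
    have hcdeg : c.natDegree = 0 := by omega
    have hcmon : c.Monic := by
      have h3 : (P * c).leadingCoeff = c.leadingCoeff := leadingCoeff_monic_mul hP
      rw [← hc, hP'.leadingCoeff] at h3
      exact h3.symm
    have hc1 : c = 1 := eq_one_of_monic_natDegree_zero hcmon hcdeg
    rw [hc, hc1, mul_one]
  refine ⟨hPP, ?_⟩
  subst hPP
  haveI : Module.Flat R[X] B := flat_of_isPairHenselization hB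
  have hreg : IsSMulRegular B (algebraMap R[X] B P) :=
    IsSMulRegular.of_flat hP.isRegular.left.isSMulRegular
  apply Units.ext
  apply hreg
  show algebraMap R[X] B P • (u : B) = algebraMap R[X] B P • (u' : B)
  rw [smul_eq_mul, smul_eq_mul, ← hfP, ← hfP']

end Main

end Groth.Agent.H8.Weier
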