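import Mathlib
import Groth.Prelude.Def_Hens2
import Groth.Agent.Lib.Helper8.Weier.Main

/-!
# Ideals of `R[s]` avoiding the special fibre versus ideals of `B[1/t]`

`B` the henselization of `(R[t], (t))`, `R` henselian local, `s ↦ t⁻¹`.
(The formal skeleton follows helper9's treatment of the Zariski-local analogue.)
-/

set_option autoImplicit false
universe u
open Polynomial IsLocalRing

namespace Groth.Agent.H8.Weier

open Groth.Agent.H8.PairHens

/-- From `I ⊔ m R[X] = ⊤` extract `f ∈ I` with `f(0) = 1` and higher coefficients in `m`. -/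
theorem exists_witness {R : Type*} [CommRing R] [IsLocalRing R] (I : Ideal R[X])
    (hI : I ⊔ (maximalIdeal R).map (algebraMap R R[X]) = ⊤) :
    ∃ f ∈ I, f.coeff 0 = 1 ∧ ∀ i, 0 < i → f.coeff i ∈ maximalIdeal R := by
  have h1 : (1 : R[X]) ∈ I ⊔ (maximalIdeal R).map (algebraMap R R[X]) := by
    rw [hI]; exact Submodule.mem_top
  obtain ⟨f₁, hf₁, μ, hμ, hsum⟩ := Submodule.mem_sup.mp h1
  rw [Polynomial.algebraMap_eq, Ideal.mem_map_C_iff] at hμ
  have hc : ∀ i, f₁.coeff i = (1 : R[X]).coeff i - μ.coeff i := by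
    intro i
    rw [← hsum, coeff_add, add_sub_cancel_right]
  have hu : IsUnit (f₁.coeff 0) := by
    rw [hc 0, coeff_one_zero]
    by_contra hcon
    have h2 : 1 - μ.coeff 0 ∈ maximalIdeal R := (IsLocalRing.mem_maximalIdeal _).mpr hcon
    have h3 : (1 : R) ∈ maximalIdeal R := by
      have := Ideal.add_mem _ h2 (hμ 0)
      rwa [sub_add_cancel] at this
    exact (Ideal.ne_top_iff_one _).mp (IsLocalRing.maximalIdeal.isMaximal R).ne_top h3
  obtain ⟨u, hu'⟩ := hu.exists_left_inv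
  refine ⟨C u * f₁, I.mul_mem_left _ hf₁, ?_, ?_⟩
  · rw [coeff_C_mul, hu']
  · intro i hi
    rw [coeff_C_mul, hc i, coeff_one, if_neg (Nat.pos_iff_ne_zero.mp hi), zero_sub]
    exact Ideal.mul_mem_left _ _ (Ideal.neg_mem_iff _ |>.mpr (hμ i))

/-- The reverse of `f` with `f(0) = 1`, `f ≡ 1 mod m` is a Weierstrass polynomial. -/
theorem reverse_props {R : Type*} [CommRing R] [IsLocalRing R] (f : R[X]) (hf0 : f.coeff 0 = 1)
    (hfm : ∀ i, 0 < i → f.coeff i ∈ maximalIdeal R) :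
    f.reverse.Monic ∧ ∀ i, i < f.reverse.natDegree → f.reverse.coeff i ∈ maximalIdeal R := by
  have h1 : f.natTrailingDegree = 0 :=
    natTrailingDegree_eq_zero_of_constantCoeff_ne_zero (by
      rw [constantCoeff_apply, hf0]; exact one_ne_zero)
  refine ⟨?_, ?_⟩
  · rw [Monic, reverse_leadingCoeff, trailingCoeff, h1, hf0]
  · intro i hi
    rw [reverse_natDegree, h1, Nat.sub_zero] at hi
    rw [coeff_reverse, revAt_le hi.le]
    exact hfm _ (Nat.sub_pos_of_lt hi)

/-- The reverse of a Weierstrass polynomial has constant term `1` and higher coefficients in `m`. -/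
theorem reverse_props' {R : Type*} [CommRing R] [IsLocalRing R] (P : R[X]) (hP : P.Monic)
    (hPm : ∀ i, i < P.natDegree → P.coeff i ∈ maximalIdeal R) :
    P.reverse.coeff 0 = 1 ∧ ∀ i, 0 < i → P.reverse.coeff i ∈ maximalIdeal R := by
  refine ⟨?_, ?_⟩
  · rw [coeff_zero_reverse]; exact hP
  · intro i hi
    rw [coeff_reverse]
    by_cases hik : i ≤ P.natDegree
    · rw [revAt_le hik]
      exact hPm _ (by omega)
    · push Not at hik
      rw [revAt_eq_self_of_lt hik, coeff_eq_zero_of_natDegree_lt hik]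
      exact Ideal.zero_mem _

section Laurent

variable {R : Type u} [CommRing R] [HenselianLocalRing R] {B : Type u} [CommRing B] [Algebra R B]
  [Algebra R[X] B] [IsScalarTower R R[X] B]
  {L : Type u} [CommRing L] [Algebra B L] [Algebra R L] [IsScalarTower R B L]

local notation "𝔱" => (algebraMap (Polynomial R) B (Polynomial.X : Polynomial R))
local notation "𝔪B" => (Ideal.map (algebraMap R B) (IsLocalRing.maximalIdeal R))

theorem eval₂_toL (p : R[X]) :
    eval₂ (algebraMap R L) (algebraMap B L 𝔱) p = algebraMap B L (algebraMap R[X] B p) := by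
  have h1 := aeval_algHom_apply
    ((IsScalarTower.toAlgHom R B L).comp (IsScalarTower.toAlgHom R R[X] B)) X p
  rw [aeval_X_left_apply] at h1
  rw [← aeval_def]
  exact h1

theorem eval₂_algHom (ψ : R[X] →ₐ[R] L) (p : R[X]) :
    eval₂ (algebraMap R L) (ψ X) p = ψ p := by
  rw [← aeval_def, aeval_algHom_apply, aeval_X_left_apply]

theorem map_map_C_eq (ψ : R[X] →ₐ[R] L) :
    ((maximalIdeal R).map (algebraMap R R[X])).map ψ.toRingHom =
      (maximalIdeal R).map (algebraMap R L) := by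
  rw [Ideal.map_map]
  congr 1
  exact ψ.comp_algebraMap

variable (ψ : R[X] →ₐ[R] L) (hψ : ψ X * algebraMap B L (algebraMap R[X] B X) = 1)

include hψ in
/-- `ψ (reverse P) = P(t) · s^{deg P}`. -/
theorem psi_reverse (P : R[X]) :
    ψ P.reverse = algebraMap B L (algebraMap R[X] B P) * ψ X ^ P.natDegree := by
  letI : Invertible (algebraMap B L 𝔱) := ⟨ψ X, hψ, by rw [mul_comm]; exact hψ⟩
  have h2 := eval₂_reverse_mul_pow (algebraMap R L) (algebraMap B L 𝔱) P
  have h3 : ⅟(algebraMap B L 𝔱) = ψ X := rfl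
  rw [h3, eval₂_algHom, eval₂_toL] at h2
  rw [← h2, mul_assoc, ← mul_pow, mul_comm (algebraMap B L 𝔱), hψ, one_pow, mul_one]

include hψ in
/-- `(reverse f)(t) = ψ f · t^{deg f}`. -/
theorem algebraMap_reverse (f : R[X]) :
    algebraMap B L (algebraMap R[X] B f.reverse) = ψ f * algebraMap B L 𝔱 ^ f.natDegree := by
  letI : Invertible (ψ X) := ⟨algebraMap B L 𝔱, by rw [mul_comm]; exact hψ, hψ⟩
  have h2 := eval₂_reverse_mul_pow (algebraMap R L) (ψ X) f
  have h3 : ⅟(ψ X) = algebraMap B L 𝔱 := rfl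
  rw [h3, eval₂_algHom, eval₂_toL] at h2
  rw [← h2, mul_assoc, ← mul_pow, hψ, one_pow, mul_one]

variable [IsLocalization.Away (algebraMap R[X] B X) L]

include hψ in
/-- The retraction `θ : L → R[X]/I` with `θ ∘ ψ = mk`. -/
theorem exists_retraction
    (hB : Hens2.IsPairHenselization R[X] (Ideal.span {(X : R[X])}) B) (I : Ideal R[X])
    (hI : I ⊔ (maximalIdeal R).map (algebraMap R R[X]) = ⊤) :
    ∃ θ : L →+* R[X] ⧸ I, (∀ x, θ (ψ x) = Ideal.Quotient.mk I x) ∧
      ∀ y : L, ∃ x : R[X], θ y = Ideal.Quotient.mk I x ∧ y - ψ x ∈ I.map ψ.toRingHom := by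
  obtain ⟨f, hfI, hf0, hfm⟩ := exists_witness I hI
  obtain ⟨hPmon, hPm⟩ := reverse_props f hf0 hfm
  obtain ⟨sb, hsb⟩ : ∃ sb : R[X] ⧸ I, sb = Ideal.Quotient.mk I X := ⟨_, rfl⟩
  obtain ⟨hb, hhb⟩ : ∃ hb : R[X] ⧸ I, hb = Ideal.Quotient.mk I (-divX f) := ⟨_, rfl⟩
  have hXdiv : X * (-divX f) = 1 - f := by
    have := X_mul_divX_add f
    rw [hf0, map_one] at this
    rw [mul_neg]
    nth_rewrite 2 [← this]
    ring
  have hsh : sb * hb = 1 := by
    rw [hsb, hhb, ← map_mul, hXdiv, map_sub, map_one, Ideal.Quotient.eq_zero_iff_mem.mpr hfI,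
      sub_zero]
  have hmk : ∀ p : R[X], aeval sb p = Ideal.Quotient.mk I p := by
    intro p
    have := aeval_algHom_apply (Ideal.Quotient.mkₐ R I) X p
    rw [aeval_X_left_apply] at this
    rw [hsb]; exact this
  have hfs : aeval sb f = 0 := by
    rw [hmk, Ideal.Quotient.eq_zero_iff_mem]; exact hfI
  have hhbu : IsUnit hb := IsUnit.of_mul_eq_one sb (by rw [mul_comm]; exact hsh)
  have hPh : aeval hb f.reverse = 0 := by
    letI : Invertible sb := ⟨hb, by rw [mul_comm]; exact hsh, hsh⟩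
    have h1 := eval₂_reverse_mul_pow (algebraMap R (R[X] ⧸ I)) sb f
    have h2 : ⅟sb = hb := rfl
    rw [h2, ← aeval_def sb f, hfs] at h1
    have h3 := congrArg (· * hb ^ f.natDegree) h1
    simp only [zero_mul] at h3
    rw [mul_assoc, ← mul_pow, hsh, one_pow, mul_one] at h3
    rw [aeval_def]; exact h3
  -- the map out of `B`
  let lam : R[X] ⧸ Ideal.span {f.reverse} →+* R[X] ⧸ I :=
    Ideal.Quotient.lift (Ideal.span {f.reverse}) (aeval hb : R[X] →ₐ[R] R[X] ⧸ I).toRingHom (by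
      intro x hx
      obtain ⟨c, rfl⟩ := Ideal.mem_span_singleton'.mp hx
      show aeval hb (c * f.reverse) = 0
      rw [map_mul, hPh, mul_zero])
  let e := RingEquiv.ofBijective
    (Ideal.quotientMap (Ideal.span {algebraMap R[X] B f.reverse}) (algebraMap R[X] B)
      (span_le_comap f.reverse)) (bijective_quotientMap_weierstrass hB f.reverse hPmon hPm)
  let θB : B →+* R[X] ⧸ I :=
    lam.comp ((e.symm : _ →+* _).comp (Ideal.Quotient.mk (Ideal.span {algebraMap R[X] B f.reverse})))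
  have hθB : ∀ p : R[X], θB (algebraMap R[X] B p) = aeval hb p := by
    intro p
    show lam (e.symm (Ideal.Quotient.mk _ (algebraMap R[X] B p))) = _
    have h1 : e.symm (Ideal.Quotient.mk _ (algebraMap R[X] B p)) =
        Ideal.Quotient.mk (Ideal.span {f.reverse}) p := by
      rw [RingEquiv.symm_apply_eq]
      exact (Ideal.quotientMap_mk (f := algebraMap R[X] B) (H := span_le_comap f.reverse)).symm
    rw [h1]
    rfl
  have hθBt : θB 𝔱 = hb := by rw [hθB, aeval_X]
  have hθBu : IsUnit (θB 𝔱) := by rw [hθBt]; exact hhbu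
  let θ : L →+* R[X] ⧸ I := IsLocalization.Away.lift 𝔱 hθBu
  have hθalg : ∀ b : B, θ (algebraMap B L b) = θB b := fun b =>
    IsLocalization.Away.lift_eq 𝔱 hθBu b
  have hθτ : θ (algebraMap B L 𝔱) = hb := by rw [hθalg, hθBt]
  have hθψX : θ (ψ X) = sb := by
    have h1 : θ (ψ X) * hb = 1 := by rw [← hθτ, ← map_mul, hψ, map_one]
    calc θ (ψ X) = θ (ψ X) * (hb * sb) := by rw [mul_comm hb sb, hsh, mul_one]
      _ = sb := by rw [← mul_assoc, h1, one_mul]
  have hψC : ∀ r : R, ψ (C r) = algebraMap B L (algebraMap R[X] B (C r)) := by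
    intro r
    rw [algebraMap_C, ← IsScalarTower.algebraMap_apply R B L, ← Polynomial.algebraMap_eq,
      AlgHom.commutes]
  have hθψ : ∀ x, θ (ψ x) = Ideal.Quotient.mk I x := by
    have : (θ.comp ψ.toRingHom) = Ideal.Quotient.mk I := by
      refine Polynomial.ringHom_ext (fun r => ?_) ?_
      · show θ (ψ (C r)) = Ideal.Quotient.mk I (C r)
        rw [hψC, hθalg, hθB, aeval_C]
        rfl
      · show θ (ψ X) = Ideal.Quotient.mk I X
        rw [hθψX, hsb]
    intro x
    exact RingHom.congr_fun this x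
  refine ⟨θ, hθψ, ?_⟩
  let π : L →+* L ⧸ I.map ψ.toRingHom := Ideal.Quotient.mk _
  let ψb : R[X] ⧸ I →+* L ⧸ I.map ψ.toRingHom :=
    Ideal.quotientMap (I.map ψ.toRingHom) ψ.toRingHom Ideal.le_comap_map
  have hψb : ∀ x : R[X], ψb (Ideal.Quotient.mk I x) = π (ψ x) := fun x =>
    Ideal.quotientMap_mk
  have hψf : ψ f ∈ I.map ψ.toRingHom := Ideal.mem_map_of_mem ψ.toRingHom hfI
  have hkeyB : π.comp (algebraMap B L) = (ψb.comp θ).comp (algebraMap B L) := by
    apply ringHom_ext_of_weierstrass hB f.reverse hPmon hPm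
    · refine Polynomial.ringHom_ext (fun r => ?_) ?_
      · show π (algebraMap B L (algebraMap R[X] B (C r))) =
          ψb (θ (algebraMap B L (algebraMap R[X] B (C r))))
        rw [hθalg, hθB, aeval_C]
        have h1 : algebraMap R (R[X] ⧸ I) r = Ideal.Quotient.mk I (C r) := rfl
        rw [h1, hψb, hψC]
      · show π (algebraMap B L 𝔱) = ψb (θ (algebraMap B L 𝔱))
        rw [hθτ, hhb, hψb]
        symm
        rw [← sub_eq_zero, ← map_sub, Ideal.Quotient.eq_zero_iff_mem]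
        have h1 : ψ X * ψ (-divX f) = 1 - ψ f := by
          rw [← map_mul, hXdiv, map_sub, map_one]
        have h2 : ψ (-divX f) = algebraMap B L 𝔱 - algebraMap B L 𝔱 * ψ f := by
          calc ψ (-divX f) = (algebraMap B L 𝔱 * ψ X) * ψ (-divX f) := by
                rw [mul_comm (algebraMap B L 𝔱), hψ, one_mul]
            _ = algebraMap B L 𝔱 * (1 - ψ f) := by rw [mul_assoc, h1]
            _ = _ := by ring
        rw [h2]
        have h3 : algebraMap B L 𝔱 - algebraMap B L 𝔱 * ψ f - algebraMap B L 𝔱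
            = -(algebraMap B L 𝔱 * ψ f) := by ring
        rw [h3]
        exact Ideal.neg_mem_iff _ |>.mpr (Ideal.mul_mem_left _ _ hψf)
    · show π (algebraMap B L (algebraMap R[X] B f.reverse)) = 0
      rw [algebraMap_reverse ψ hψ f, Ideal.Quotient.eq_zero_iff_mem]
      exact Ideal.mul_mem_right _ _ hψf
    · show ψb (θ (algebraMap B L (algebraMap R[X] B f.reverse))) = 0
      rw [hθalg, hθB, hPh, map_zero]
  have hkey : π = ψb.comp θ :=
    IsLocalization.ringHom_ext (Submonoid.powers 𝔱) hkeyB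
  intro y
  obtain ⟨x, hx⟩ := Ideal.Quotient.mk_surjective (θ y)
  refine ⟨x, hx.symm, ?_⟩
  rw [← Ideal.Quotient.eq_zero_iff_mem, map_sub, sub_eq_zero]
  have := RingHom.congr_fun hkey y
  rw [RingHom.comp_apply, ← hx, hψb] at this
  exact this

include hψ in
theorem part1 (hB : Hens2.IsPairHenselization R[X] (Ideal.span {(X : R[X])}) B) (I : Ideal R[X])
    (hI : I ⊔ (maximalIdeal R).map (algebraMap R R[X]) = ⊤) :
    (I.map ψ.toRingHom).comap ψ.toRingHom = I ∧
    I.map ψ.toRingHom ⊔ (maximalIdeal R).map (algebraMap R L) = ⊤ ∧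
    Function.Bijective
      (Ideal.quotientMap (I.map ψ.toRingHom) ψ.toRingHom Ideal.le_comap_map) := by
  obtain ⟨θ, hθψ, hsurj⟩ := exists_retraction ψ hψ hB I hI
  have hker : I.map ψ.toRingHom ≤ RingHom.ker θ := by
    rw [Ideal.map_le_iff_le_comap]
    intro x hx
    rw [Ideal.mem_comap, RingHom.mem_ker]
    change θ (ψ x) = 0
    rw [hθψ, Ideal.Quotient.eq_zero_iff_mem]; exact hx
  have hle : (I.map ψ.toRingHom).comap ψ.toRingHom ≤ I := by
    intro x hx
    have h1 : θ (ψ x) = 0 := hker hx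
    rw [hθψ, Ideal.Quotient.eq_zero_iff_mem] at h1
    exact h1
  refine ⟨le_antisymm hle Ideal.le_comap_map, ?_, ?_, ?_⟩
  · rw [← map_map_C_eq ψ, ← Ideal.map_sup, hI, Ideal.map_top]
  · exact Ideal.quotientMap_injective' hle
  · intro y
    obtain ⟨y₀, rfl⟩ := Ideal.Quotient.mk_surjective y
    obtain ⟨x, -, hx⟩ := hsurj y₀
    refine ⟨Ideal.Quotient.mk I x, ?_⟩
    rw [Ideal.quotientMap_mk]
    symm
    rw [← sub_eq_zero, ← map_sub, Ideal.Quotient.eq_zero_iff_mem]
    exact hx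

include hψ in
theorem exists_witness_comap
    (hB : Hens2.IsPairHenselization R[X] (Ideal.span {(X : R[X])}) B) (J : Ideal L)
    (hJ : J ⊔ (maximalIdeal R).map (algebraMap R L) = ⊤) :
    ∃ f ∈ J.comap ψ.toRingHom, f.coeff 0 = 1 ∧ ∀ i, 0 < i → f.coeff i ∈ maximalIdeal R := by
  obtain ⟨Φ, hΦ⟩ := exists_Phi hB
  have hmL : (maximalIdeal R).map (algebraMap R L) = (𝔪B).map (algebraMap B L) := by
    rw [Ideal.map_map, ← IsScalarTower.algebraMap_eq]
  have h1 : (1 : L) ∈ J ⊔ (maximalIdeal R).map (algebraMap R L) := by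
    rw [hJ]; exact Submodule.mem_top
  obtain ⟨j, hj, μ, hμ, hsum⟩ := Submodule.mem_sup.mp h1
  obtain ⟨⟨b, s⟩, hbs⟩ := IsLocalization.surj (Submonoid.powers 𝔱) j
  simp only at hbs
  have hbJ : algebraMap B L b ∈ J := by rw [← hbs]; exact J.mul_mem_right _ hj
  have hsub : algebraMap B L (b - s) ∈ (𝔪B).map (algebraMap B L) := by
    rw [← hmL]
    have h2 : algebraMap B L (b - s) = -(μ * algebraMap B L s) := by
      rw [map_sub, ← hbs]
      have h3 : j = 1 - μ := by rw [← hsum]; ring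
      rw [h3]; ring
    rw [h2]
    exact Ideal.neg_mem_iff _ |>.mpr (Ideal.mul_mem_right _ _ hμ)
  rw [IsLocalization.mem_map_algebraMap_iff (Submonoid.powers 𝔱)] at hsub
  obtain ⟨⟨c, s'⟩, hcs⟩ := hsub
  simp only at hcs
  rw [← map_mul, IsLocalization.eq_iff_exists (Submonoid.powers 𝔱)] at hcs
  obtain ⟨s'', hs''⟩ := hcs
  obtain ⟨k, hk⟩ := s.2
  obtain ⟨k', hk'⟩ := s'.2
  obtain ⟨k'', hk''⟩ := s''.2
  have hk : 𝔱 ^ k = (s : B) := hk
  have hk' : 𝔱 ^ k' = (s' : B) := hk'
  have hk'' : 𝔱 ^ k'' = (s'' : B) := hk''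
  -- the element `b' = s'' s' b`
  have hb'J : algebraMap B L ((s'' : B) * (s' : B) * b) ∈ J := by
    rw [map_mul]; exact J.mul_mem_left _ hbJ
  have hb'm : (s'' : B) * (s' : B) * b - 𝔱 ^ (k'' + k' + k) ∈ 𝔪B := by
    have h4 : (s'' : B) * (s' : B) * b - 𝔱 ^ (k'' + k' + k) = (s'' : B) * (c : B) := by
      rw [← hs'', pow_add, pow_add, hk, hk', hk'']; ring
    rw [h4]
    exact Ideal.mul_mem_left _ _ c.2
  have hb'n : (s'' : B) * (s' : B) * b ∉ 𝔪B := by
    intro h5
    have h6 := (Ideal.sub_mem _ h5 hb'm)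
    rw [sub_sub_cancel] at h6
    exact t_pow_notMem Φ hΦ _ h6
  obtain ⟨P, u, hPmon, hPm, hbP⟩ := exists_weierstrass hB _ hb'n
  have hPJ : algebraMap B L (algebraMap R[X] B P) ∈ J := by
    have h7 : algebraMap R[X] B P = (s'' : B) * (s' : B) * b * ((u⁻¹ : Bˣ) : B) := by
      rw [hbP, mul_assoc, Units.mul_inv, mul_one]
    rw [h7, map_mul]
    exact J.mul_mem_right _ hb'J
  obtain ⟨h0, hm⟩ := reverse_props' P hPmon hPm
  refine ⟨P.reverse, ?_, h0, hm⟩
  rw [Ideal.mem_comap]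
  change ψ P.reverse ∈ J
  rw [psi_reverse ψ hψ P]
  exact J.mul_mem_right _ hPJ

include hψ in
theorem part2 (hB : Hens2.IsPairHenselization R[X] (Ideal.span {(X : R[X])}) B) (J : Ideal L)
    (hJ : J ⊔ (maximalIdeal R).map (algebraMap R L) = ⊤) :
    (J.comap ψ.toRingHom).map ψ.toRingHom = J ∧
    J.comap ψ.toRingHom ⊔ (maximalIdeal R).map (algebraMap R R[X]) = ⊤ := by
  obtain ⟨f, hfJ, hf0, hfm⟩ := exists_witness_comap ψ hψ hB J hJ
  have htop : J.comap ψ.toRingHom ⊔ (maximalIdeal R).map (algebraMap R R[X]) = ⊤ := by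
    rw [Ideal.eq_top_iff_one]
    refine Submodule.mem_sup.mpr ⟨f, hfJ, 1 - f, ?_, by ring⟩
    rw [Polynomial.algebraMap_eq, Ideal.mem_map_C_iff]
    intro i
    rw [coeff_sub]
    rcases Nat.eq_zero_or_pos i with rfl | hi
    · rw [coeff_one_zero, hf0, sub_self]; exact Ideal.zero_mem _
    · rw [coeff_one, if_neg (Nat.pos_iff_ne_zero.mp hi), zero_sub]
      exact Ideal.neg_mem_iff _ |>.mpr (hfm i hi)
  refine ⟨le_antisymm Ideal.map_comap_le ?_, htop⟩
  intro x hx
  obtain ⟨θ, -, hsurj⟩ := exists_retraction ψ hψ hB (J.comap ψ.toRingHom) htop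
  obtain ⟨x', -, hx'⟩ := hsurj x
  have h1 : x - ψ x' ∈ J := Ideal.map_comap_le hx'
  have h2 : ψ x' ∈ J := by
    have := J.sub_mem hx h1
    rwa [sub_sub_cancel] at this
  have h3 : ψ x' ∈ (J.comap ψ.toRingHom).map ψ.toRingHom :=
    Ideal.mem_map_of_mem ψ.toRingHom (Ideal.mem_comap.mpr h2)
  have := Ideal.add_mem _ hx' h3
  rwa [sub_add_cancel] at this

end Laurent

end Groth.Agent.H8.Weier
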